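import Mathlib
import Cfsg.Prelude.Def_KGroupFacts
import Cfsg.Agent.H254.CopCard_m3
import Cfsg.Agent.S0293
import Cfsg.Agent.S0816
import Cfsg.Agent.S0817
import Cfsg.Agent.S0818
import Cfsg.Agent.ClassicalGeometry.OrthSemiForms
import Cfsg.Agent.Schreier.ClassAll
import Cfsg.Agent.Prune
set_option linter.all false
prune_inst 0x7f00000000000000000000000000000000000000000000000000000000000000000000000000000000000000000000000000000000000000000000000000000000000000000000000000000000000000003fffffffffffffffffffffffffffbeffbdffffffff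
open scoped Cfsg.Agent.FastGrp

/-!
# Coprime automorphisms of the orthogonal groups

A group of automorphisms of `PΩ(Q)` of order prime to its order is conjugate into the group generated by the
automorphism induced by a semisimilitude whose field automorphism generates the automorphism group of the field.
-/

set_option autoImplicit false

namespace Cfsg.Agent.H254.Orth

open Cfsg Cfsg.Agent.Schreier.Basic Cfsg.Agent.LieClassical.OrthCore Cfsg.Agent.LieClassical.OrthTrans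
open Cfsg.Agent.ClassicalGeometry.OrthSemi Cfsg.Agent.ClassicalGeometry.OrthSemiCount
open Cfsg.Agent.ClassicalGeometry.OrthSemiForms Cfsg.Agent.LieClassical.OrthSimple
  Cfsg.Agent.LieClassical.OrthForms

universe u

section gen

variable {F V : Type*} [Field F] [AddCommGroup V] [Module F V] {Q : QuadraticForm F V}

theorem isSS_pow {ρ : F ≃+* F} {c : F} {M : Equiv.Perm V} (h : IsSS Q ρ c M) (k : ℕ) :
    ∃ c' : F, IsSS Q (ρ ^ k) c' (M ^ k) := by
  induction k with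
  | zero =>
    refine ⟨1, one_ne_zero, fun _ _ => rfl, fun _ _ => rfl, fun v => ?_⟩
    rw [one_mul]; rfl
  | succ k ih =>
    obtain ⟨c', h'⟩ := ih
    refine ⟨c' * (ρ ^ k) c, ?_⟩
    rw [pow_succ, pow_succ]
    exact h'.mul h

theorem orderOf_dvd (hG : Good Q) {ρ : F ≃+* F} {c : F} {M : Equiv.Perm V} (h : IsSS Q ρ c M) :
    orderOf ρ ∣ orderOf (Psi Q ⟨M, ρ, c, h⟩) := by
  apply orderOf_dvd_of_pow_eq_one
  set k := orderOf (Psi Q ⟨M, ρ, c, h⟩) with hk
  have h1 : Psi Q (⟨M, ρ, c, h⟩ ^ k) = 1 := by rw [map_pow, hk, pow_orderOf_eq_one]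
  have h2 : (⟨M, ρ, c, h⟩ : Gam Q) ^ k ∈ (Psi Q).ker := h1
  rw [ker_Psi hG] at h2
  obtain ⟨a, ha⟩ := h2
  obtain ⟨c', h3⟩ := isSS_pow h k
  have h4 : IsSS Q (RingEquiv.refl F) ((a : F) * a) (M ^ k) := by
    have h5 : M ^ k = (scal Q a).1 := by rw [ha]; rfl
    rw [h5]
    refine ⟨mul_ne_zero a.ne_zero a.ne_zero, fun u v => smul_add _ _ _, fun t v => smul_comm _ _ _, fun v => ?_⟩
    rw [scal_apply, QuadraticMap.map_smul]
    rfl
  exact (isSS_unique hG h3 h4).1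

end gen

section fam

variable {F : Type*} [Field F] {ι : Type} [Fintype ι] [DecidableEq ι]

/-- The automorphism of `PΩ(Q)` induced by a semisimilitude. -/
noncomputable def ind {Q : QuadraticForm F (ι → F)} (hG : Good Q) (M : Gam Q) : MulAut (Cfsg.POmega F ⇑Q) :=
  (MulAut.congr (pomegaEquiv hG)).symm (Psi Q M)

theorem orderOf_ind {Q : QuadraticForm F (ι → F)} (hG : Good Q) {ρ : F ≃+* F} {c : F} {M : Equiv.Perm (ι → F)}
    (h : IsSS Q ρ c M) : orderOf ρ ∣ orderOf (ind hG ⟨M, ρ, c, h⟩) := by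
  have h1 : orderOf (ind hG ⟨M, ρ, c, h⟩) = orderOf (Psi Q ⟨M, ρ, c, h⟩) :=
    orderOf_injective (MulAut.congr (pomegaEquiv hG)).symm.toMonoidHom (MulAut.congr (pomegaEquiv hG)).symm.injective _
  rw [h1]
  exact orderOf_dvd hG h

end fam

variable {F : Type*} [Field F] [Fintype F] {m : ℕ}

theorem copIn_odd (hm : 3 ≤ m) (hodd : Odd (Fintype.card F)) [Finite (Cfsg.POmega F (Cfsg.quadFormOdd m F))]
    [IsSimpleGroup (Cfsg.POmega F (Cfsg.quadFormOdd m F))]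
    (hna : ¬ IsMulCommutative (Cfsg.POmega F (Cfsg.quadFormOdd m F)))
    (h2 : 2 ∣ Nat.card (Cfsg.POmega F (Cfsg.quadFormOdd m F))) :
    ∃ σ : MulAut (Cfsg.POmega F (Cfsg.quadFormOdd m F)), CopIn _ σ := by
  obtain ⟨p, hchar⟩ := CharP.exists F
  obtain ⟨f, hp, hf⟩ := FiniteField.card F p
  have hpf : Fact p.Prime := ⟨hp⟩
  have hpodd : Odd p := by
    rw [hf] at hodd
    exact (Nat.odd_pow_iff f.pos.ne').1 hodd
  have h20 : (2 : F) ≠ 0 := Cfsg.Agent.LieClassical.PomegaCard.odd_card_iff.1 hodd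
  have hcard := S0816.result p f f.pos hf hpodd m hm
  have hf' : Nat.card (F ≃+* F) = f := Lib.FieldAutCard.card_ringAut f.pos hf
  obtain ⟨ρ, hρ, -⟩ := exists_ringAut F
  obtain ⟨M, hM⟩ := odd_exists h20 m ρ
  have hG := good_odd (F := F) (m := m) (by omega) h20
  have h5 : (f : ℕ) ∣ orderOf (ind hG ⟨M, ρ, 1, hM⟩) := by
    rw [← hf', ← hρ]
    exact orderOf_ind hG hM
  have hσ : ∃ σ : MulAut (Cfsg.POmega F (Cfsg.quadFormOdd m F)), (f : ℕ) ∣ orderOf σ := by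
    rw [← coe_oddForm]
    exact ⟨ind hG ⟨M, ρ, 1, hM⟩, h5⟩
  obtain ⟨σ, hσ⟩ := hσ
  refine ⟨σ, CopIn.of_card hna (Schreier.ClassPOmega.sch_odd hm h20) _ 2 two_ne_zero ?_ ?_⟩
  · intro r hr hd
    rw [(Nat.prime_dvd_prime_iff_eq hr Nat.prime_two).1 hd]; exact h2
  · rw [hcard]
    exact Nat.mul_dvd_mul_right (Nat.mul_dvd_mul_left _ hσ) _

/-- `3` divides the order of `PΩ⁺`. -/
theorem three_dvd_plus (hm : 4 ≤ m) : 3 ∣ Nat.card (Cfsg.POmega F (Cfsg.quadFormPlus m F)) := by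
  have h1 := S0293.result (F := F) rfl m hm
  set q := Fintype.card F with hq
  have h2 : 3 ∣ Nat.gcd 4 (q ^ m - 1) * Nat.card (Cfsg.POmega F (Cfsg.quadFormPlus m F)) := by
    rw [h1]
    by_cases h3 : 3 ∣ q
    · refine Dvd.dvd.mul_right (Dvd.dvd.mul_right (dvd_pow h3 ?_) _) _
      exact mul_ne_zero (by omega) (by omega)
    · refine Dvd.dvd.mul_left ?_ _
      refine dvd_trans ?_ (Finset.dvd_prod_of_mem _ (Finset.mem_range.2 (show 0 < m - 1 by omega)))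
      have h4 : q % 3 = 1 ∨ q % 3 = 2 := by omega
      have h5 : (q ^ 2) % 3 = 1 := by
        rcases h4 with h4 | h4 <;> simp [Nat.pow_mod, h4]
      have h6 : 2 * (0 + 1) = 2 := by norm_num
      rw [h6]
      omega
  rcases (Nat.prime_three.dvd_mul).1 h2 with h3 | h3
  · exfalso
    have h4 : 3 ∣ 2 ^ 2 := h3.trans (Nat.gcd_dvd_left _ _)
    have := Nat.prime_three.dvd_of_dvd_pow h4
    omega
  · exact h3

theorem copIn_plus (hm : 4 ≤ m) [Finite (Cfsg.POmega F (Cfsg.quadFormPlus m F))]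
    [IsSimpleGroup (Cfsg.POmega F (Cfsg.quadFormPlus m F))]
    (hna : ¬ IsMulCommutative (Cfsg.POmega F (Cfsg.quadFormPlus m F)))
    (h2 : 2 ∣ Nat.card (Cfsg.POmega F (Cfsg.quadFormPlus m F))) :
    ∃ σ : MulAut (Cfsg.POmega F (Cfsg.quadFormPlus m F)), CopIn _ σ := by
  obtain ⟨p, hchar⟩ := CharP.exists F
  obtain ⟨f, hp, hf⟩ := FiniteField.card F p
  have hpf : Fact p.Prime := ⟨hp⟩
  have hcard := S0817.result p f f.pos hf m hm
  have hf' : Nat.card (F ≃+* F) = f := Lib.FieldAutCard.card_ringAut f.pos hf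
  obtain ⟨ρ, hρ, -⟩ := exists_ringAut F
  obtain ⟨M, hM⟩ := plus_exists m ρ 1 one_ne_zero
  have hG := good_plus (F := F) (m := m) (by omega)
  have h5 : (f : ℕ) ∣ orderOf (ind hG ⟨M, ρ, 1, hM⟩) := by
    rw [← hf', ← hρ]
    exact orderOf_ind hG hM
  have hσ : ∃ σ : MulAut (Cfsg.POmega F (Cfsg.quadFormPlus m F)), (f : ℕ) ∣ orderOf σ := by
    rw [← coe_plusForm]
    exact ⟨ind hG ⟨M, ρ, 1, hM⟩, h5⟩
  obtain ⟨σ, hσ⟩ := hσ
  refine ⟨σ, CopIn.of_card hna (Schreier.ClassPOmega.sch_plus hm) _ (3 * 8) (by norm_num) ?_ ?_⟩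
  · intro r hr hd
    rcases (hr.dvd_mul).1 hd with h | h
    · rw [(Nat.prime_dvd_prime_iff_eq hr Nat.prime_three).1 h]; exact three_dvd_plus hm
    · have h4 : r ∣ 2 ^ 3 := h
      rw [(Nat.prime_dvd_prime_iff_eq hr Nat.prime_two).1 (hr.dvd_of_dvd_pow h4)]; exact h2
  · rw [hcard]
    have h6 : (if m = 4 then 3 else 1) ∣ 3 := by
      split_ifs
      · exact dvd_rfl
      · exact one_dvd _
    have h7 : (if p = 2 then 2 else (if Even (m * (p ^ (f : ℕ) - 1) / 2) then 8 else 4)) ∣ 8 := by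
      split_ifs
      · exact ⟨4, by norm_num⟩
      · exact dvd_rfl
      · exact ⟨2, by norm_num⟩
    exact Nat.mul_dvd_mul_right (Nat.mul_dvd_mul (Nat.mul_dvd_mul h6 h7) hσ) _

theorem copIn_minus (hm : 4 ≤ m) (a b : F)
    (hab : ∀ z₁ z₂ : F, z₁ ^ 2 + a * z₁ * z₂ + b * z₂ ^ 2 = 0 → z₁ = 0 ∧ z₂ = 0)
    [Finite (Cfsg.POmega F (Cfsg.quadFormMinus (m - 1) F a b))]
    [IsSimpleGroup (Cfsg.POmega F (Cfsg.quadFormMinus (m - 1) F a b))]
    (hna : ¬ IsMulCommutative (Cfsg.POmega F (Cfsg.quadFormMinus (m - 1) F a b)))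
    (h2 : 2 ∣ Nat.card (Cfsg.POmega F (Cfsg.quadFormMinus (m - 1) F a b))) :
    ∃ σ : MulAut (Cfsg.POmega F (Cfsg.quadFormMinus (m - 1) F a b)), CopIn _ σ := by
  obtain ⟨p, hchar⟩ := CharP.exists F
  obtain ⟨f, hp, hf⟩ := FiniteField.card F p
  have hpf : Fact p.Prime := ⟨hp⟩
  have hcard := S0818.result p f f.pos hf m hm a b hab
  have hf' : Nat.card (F ≃+* F) = f := Lib.FieldAutCard.card_ringAut f.pos hf
  obtain ⟨ρ, hρ, -⟩ := exists_ringAut F
  obtain ⟨M, hM⟩ := minus_exists (m - 1) a b hab ρ 1 one_ne_zero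
  have hG := good_minus (F := F) (m := m - 1) (by omega) a b hab
  have h5 : (f : ℕ) ∣ orderOf (ind hG ⟨M, ρ, 1, hM⟩) := by
    rw [← hf', ← hρ]
    exact orderOf_ind hG hM
  have hσ : ∃ σ : MulAut (Cfsg.POmega F (Cfsg.quadFormMinus (m - 1) F a b)), (f : ℕ) ∣ orderOf σ := by
    rw [← coe_minusForm]
    exact ⟨ind hG ⟨M, ρ, 1, hM⟩, h5⟩
  obtain ⟨σ, hσ⟩ := hσ
  refine ⟨σ, CopIn.of_card hna (Schreier.ClassPOmega.sch_minus hm a b hab) _ 8 (by norm_num) ?_ ?_⟩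
  · intro r hr hd
    have h4 : r ∣ 2 ^ 3 := hd
    rw [(Nat.prime_dvd_prime_iff_eq hr Nat.prime_two).1 (hr.dvd_of_dvd_pow h4)]; exact h2
  · rw [hcard]
    have h7 : (if p = 2 then 2 else (if Even (m * (p ^ (f : ℕ) - 1) / 2) then 4 else 8)) ∣ 8 := by
      split_ifs
      · exact ⟨4, by norm_num⟩
      · exact ⟨2, by norm_num⟩
      · exact dvd_rfl
    exact Nat.mul_dvd_mul_right (Nat.mul_dvd_mul h7 hσ) _

end Cfsg.Agent.H254.Orth
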