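import Mathlib
import Cfsg.Agent.H254.CopMain
import Cfsg.Agent.H967.CopD4_m3
import Cfsg.Agent.Prune
set_option linter.all false
prune_inst 0x7f00000000000000000000000000000000000000000000000000000000000000000000000000000000000000000000000000000000000000000000000000000000000000000000000000000000000000003fffffffffffffffffffffffffffbeffbdffffffff
open scoped Cfsg.Agent.FastGrp

/-!
# Coprime groups of automorphisms of the known simple groups are cyclic
-/

set_option autoImplicit false

namespace Cfsg.Agent.H254.CopAll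

open Cfsg Cfsg.Agent.H254 Cfsg.Agent.H254.CopMain

universe u

theorem exRows : ExRows.{u} where
  g2 _ _ _ _ h := H967.CopCycAll.copCyc_g2 h
  f4 _ _ _ _ h := H967.CopCycAll.copCyc_f4 h
  e6 _ _ _ _ h := H967.CopCycAll.copCyc_e6 h
  e7 _ _ _ _ h := H967.CopCycAll.copCyc_e7 h
  e8 _ _ _ _ h := H967.CopCycAll.copCyc_e8 h
  sz _ _ _ _ h := H967.CopCycAll.copCyc_sz h
  ree _ _ _ _ h := H967.CopCycAll.copCyc_ree h
  tf4 _ _ _ _ h := H967.CopCycAll.copCyc_tf4 h

/-- **Coprime groups of automorphisms of the known non-abelian simple groups are cyclic.** -/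
theorem known (K : Type u) [Group K] [Finite K] [IsSimpleGroup K] (hna : ¬ IsMulCommutative K)
    (hk : IsKnownSimple' K) : CopCyc K := known_of exRows K hna hk

/-- The form for K-groups. -/
theorem of_isKGroup (K : Type u) [Group K] [Finite K] [IsSimpleGroup K] (hna : ¬ IsMulCommutative K)
    (hk : IsKGroup K) : CopCyc K := by
  let e : (⊤ : Subgroup K) ⧸ (⊥ : Subgroup (⊤ : Subgroup K)) ≃* K :=
    QuotientGroup.quotientBot.trans Subgroup.topEquiv
  have h1 : IsSimpleGroup ((⊤ : Subgroup K) ⧸ (⊥ : Subgroup (⊤ : Subgroup K))) := e.isSimpleGroup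
  have h2 : ¬ IsMulCommutative ((⊤ : Subgroup K) ⧸ (⊥ : Subgroup (⊤ : Subgroup K))) := by
    intro hc
    apply hna
    refine ⟨⟨fun a b => e.symm.injective ?_⟩⟩
    rw [map_mul, map_mul]
    exact hc.is_comm.comm _ _
  exact (known _ h2 (hk ⊤ ⊥ h1 h2)).of_equiv e

end Cfsg.Agent.H254.CopAll
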